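import Mathlib

/-!
# Two by two matrices over a field
-/

set_option autoImplicit false

namespace CfsgLib.TwoDim

open Matrix

variable {F : Type*} [Field F]

/-- Cayley–Hamilton for two by two matrices. -/
theorem sq_eq (M : Matrix (Fin 2) (Fin 2) F) : M * M = M.trace • M - M.det • 1 := by
  ext i j
  fin_cases i <;> fin_cases j <;>
    simp [Matrix.mul_apply, Fin.sum_univ_two, Matrix.det_fin_two, Matrix.trace_fin_two] <;> ring

/-- A non-scalar matrix satisfies no monic linear relation. -/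
theorem coeff_eq_zero (M : Matrix (Fin 2) (Fin 2) F)
    (hM : ∀ c : F, M ≠ c • 1) {a b : F} (h : a • M + b • (1 : Matrix (Fin 2) (Fin 2) F) = 0) :
    a = 0 ∧ b = 0 := by
  by_cases ha : a = 0
  · subst ha
    have h1 := congrFun (congrFun h 0) 0
    simp at h1
    exact ⟨rfl, h1⟩
  · exfalso
    refine hM (-(a⁻¹ * b)) ?_
    have h1 : a • M = -(b • (1 : Matrix (Fin 2) (Fin 2) F)) := eq_neg_of_add_eq_zero_left h
    calc M = a⁻¹ • a • M := by rw [smul_smul, inv_mul_cancel₀ ha, one_smul]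
      _ = (-(a⁻¹ * b)) • 1 := by rw [h1, smul_neg, smul_smul, neg_smul]

/-- A quadratic relation of a non-scalar matrix determines trace and determinant. -/
theorem trace_det_of_sq (M : Matrix (Fin 2) (Fin 2) F) (hM : ∀ c : F, M ≠ c • 1) {t d : F}
    (h : M * M = t • M - d • 1) : M.trace = t ∧ M.det = d := by
  have h1 := sq_eq M
  rw [h] at h1
  have h2 : (M.trace - t) • M + (d - M.det) • (1 : Matrix (Fin 2) (Fin 2) F) = 0 := by
    rw [sub_smul, sub_smul]
    linear_combination (norm := module) -h1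
  obtain ⟨h3, h4⟩ := coeff_eq_zero M hM h2
  exact ⟨sub_eq_zero.1 h3, (sub_eq_zero.1 h4).symm⟩

theorem det_smul_one_add (M : Matrix (Fin 2) (Fin 2) F) (a b : F) :
    (a • (1 : Matrix (Fin 2) (Fin 2) F) + b • M).det = a ^ 2 + a * b * M.trace + b ^ 2 * M.det := by
  simp [Matrix.det_fin_two, Matrix.trace_fin_two]
  ring

/-- The matrix with columns `v` and `M *ᵥ v`. -/
def cyclicMat (M : Matrix (Fin 2) (Fin 2) F) (v : Fin 2 → F) : Matrix (Fin 2) (Fin 2) F :=
  !![v 0, (M *ᵥ v) 0; v 1, (M *ᵥ v) 1]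

theorem exists_cyclic (M : Matrix (Fin 2) (Fin 2) F) (hM : ∀ c : F, M ≠ c • 1) :
    ∃ v, (cyclicMat M v).det ≠ 0 := by
  by_contra hc
  push Not at hc
  have h0 := hc ![1, 0]
  have h1 := hc ![0, 1]
  have h2 := hc ![1, 1]
  simp [cyclicMat, Matrix.det_fin_two, Matrix.mulVec, dotProduct, Fin.sum_univ_two] at h0 h1 h2
  refine hM (M 0 0) ?_
  ext i j
  fin_cases i <;> fin_cases j <;> simp [h0, h1]
  linear_combination h2 - h0 + h1

theorem mul_cyclicMat (M : Matrix (Fin 2) (Fin 2) F) (v : Fin 2 → F) :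
    M * cyclicMat M v = cyclicMat M v * !![0, -M.det; 1, M.trace] := by
  ext i j
  fin_cases i <;> fin_cases j <;>
    simp [cyclicMat, Matrix.mul_apply, Fin.sum_univ_two, Matrix.det_fin_two, Matrix.trace_fin_two,
      Matrix.mulVec, dotProduct] <;> ring

/-- Non-scalar matrices with equal trace and determinant are conjugate by an element of
determinant one, as soon as the norm form of their centralizer is universal. -/
theorem exists_det_one_conj (M N : Matrix (Fin 2) (Fin 2) F) (hM : ∀ c : F, M ≠ c • 1)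
    (hN : ∀ c : F, N ≠ c • 1) (ht : M.trace = N.trace) (hd : M.det = N.det)
    (huniv : ∀ u : F, u ≠ 0 → ∃ a b : F, a ^ 2 + a * b * M.trace + b ^ 2 * M.det = u) :
    ∃ g : Matrix (Fin 2) (Fin 2) F, g.det = 1 ∧ g * N = M * g := by
  obtain ⟨v, hv⟩ := exists_cyclic M hM
  obtain ⟨w, hw⟩ := exists_cyclic N hN
  set P := cyclicMat M v with hP
  set Q := cyclicMat N w with hQ
  obtain ⟨a, b, hab⟩ := huniv (Q.det * P.det⁻¹) (mul_ne_zero hw (inv_ne_zero hv))
  have hunitQ : IsUnit Q.det := isUnit_iff_ne_zero.2 hw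
  refine ⟨(a • 1 + b • M) * P * Q⁻¹, ?_, ?_⟩
  · rw [Matrix.det_mul, Matrix.det_mul, det_smul_one_add, hab, Matrix.det_nonsing_inv,
      Ring.inverse_eq_inv']
    field_simp
  · have h1 : Q⁻¹ * N = !![0, -N.det; 1, N.trace] * Q⁻¹ := by
      have h2 := mul_cyclicMat N w
      rw [← hQ] at h2
      calc Q⁻¹ * N = Q⁻¹ * (N * Q) * Q⁻¹ := by
            rw [mul_assoc, mul_assoc, Matrix.mul_nonsing_inv Q hunitQ, mul_one]
        _ = _ := by rw [h2, ← mul_assoc, Matrix.nonsing_inv_mul Q hunitQ, one_mul]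
    have h3 : M * P = P * !![0, -M.det; 1, M.trace] := mul_cyclicMat M v
    calc (a • 1 + b • M) * P * Q⁻¹ * N = (a • 1 + b • M) * (P * !![0, -M.det; 1, M.trace]) * Q⁻¹ := by
          rw [mul_assoc _ Q⁻¹ N, h1, ht, hd]
          simp only [mul_assoc]
      _ = (a • 1 + b • M) * M * (P * Q⁻¹) := by rw [← h3]; simp only [mul_assoc]
      _ = M * ((a • 1 + b • M) * P * Q⁻¹) := by
          rw [show (a • 1 + b • M) * M = M * (a • 1 + b • M) by
            simp [add_mul, mul_add]]
          simp only [mul_assoc]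

/-- The form `a² + t a b + d b²` is universal over a finite field of odd order unless degenerate. -/
theorem exists_binary_eq [Fintype F] (h2 : (2 : F) ≠ 0) {t d : F} (hd : 4 * d - t ^ 2 ≠ 0)
    (u : F) : ∃ a b : F, a ^ 2 + a * b * t + b ^ 2 * d = u := by
  have hodd : Fintype.card F % 2 = 1 := by
    refine FiniteField.odd_card_of_char_ne_two fun h => h2 ?_
    have := ringChar.Nat.cast_ringChar (R := F)
    rw [h] at this
    simpa using this
  have h4 : (4 : F) ≠ 0 := by
    rw [show (4 : F) = 2 * 2 by norm_num]; exact mul_ne_zero h2 h2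
  have hc : (4 * d - t ^ 2) / 4 ≠ 0 := div_ne_zero hd h4
  obtain ⟨x, y, hxy⟩ := FiniteField.exists_root_sum_quadratic
    (f := Polynomial.X ^ 2) (g := Polynomial.C ((4 * d - t ^ 2) / 4) * Polynomial.X ^ 2 -
      Polynomial.C u) (Polynomial.degree_X_pow 2)
    (by
      rw [Polynomial.degree_sub_C, Polynomial.degree_C_mul_X_pow _ hc]
      · rfl
      · rw [Polynomial.degree_C_mul_X_pow _ hc]; decide) hodd
  refine ⟨x - y * t / 2, y, ?_⟩
  simp only [Polynomial.eval_pow, Polynomial.eval_X, Polynomial.eval_sub, Polynomial.eval_mul,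
    Polynomial.eval_C] at hxy
  field_simp at hxy ⊢
  linear_combination hxy

/-- The centralizer of a non-scalar two by two matrix consists of linear polynomials in it. -/
theorem exists_eq_add_smul (Z X : Matrix (Fin 2) (Fin 2) F) (hZ : ∀ c : F, Z ≠ c • 1)
    (hc : X * Z = Z * X) : ∃ a b : F, X = a • 1 + b • Z := by
  obtain ⟨v, hv⟩ := exists_cyclic Z hZ
  set P := cyclicMat Z v with hP
  have hu : IsUnit P.det := isUnit_iff_ne_zero.2 hv
  set C : Matrix (Fin 2) (Fin 2) F := !![0, -Z.det; 1, Z.trace] with hC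
  have hZP : Z * P = P * C := mul_cyclicMat Z v
  have hCeq : C = P⁻¹ * (Z * P) := by rw [hZP, ← mul_assoc, Matrix.nonsing_inv_mul P hu, one_mul]
  set Y := P⁻¹ * X * P with hY
  have hYC : Y * C = C * Y := by
    calc Y * C = P⁻¹ * X * (P * P⁻¹) * Z * P := by rw [hY, hCeq]; simp only [mul_assoc]
      _ = P⁻¹ * (X * Z) * P := by rw [Matrix.mul_nonsing_inv P hu]; simp only [mul_one, mul_assoc]
      _ = P⁻¹ * Z * (P * P⁻¹) * X * P := by
        rw [hc, Matrix.mul_nonsing_inv P hu]; simp only [mul_one, mul_assoc]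
      _ = C * Y := by rw [hY, hCeq]; simp only [mul_assoc]
  refine ⟨Y 0 0, Y 1 0, ?_⟩
  have h00 := congrFun (congrFun hYC 0) 0
  have h10 := congrFun (congrFun hYC 1) 0
  simp [hC, Matrix.mul_apply, Fin.sum_univ_two] at h00 h10
  have hYeq : Y = (Y 0 0) • 1 + (Y 1 0) • C := by
    ext i j
    fin_cases i <;> fin_cases j <;> simp [hC]
    · linear_combination h00
    · linear_combination h10
  calc X = P * Y * P⁻¹ := by
        rw [hY]; simp only [mul_assoc, Matrix.mul_nonsing_inv P hu, mul_one]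
        rw [← mul_assoc, Matrix.mul_nonsing_inv P hu, one_mul]
    _ = P * ((Y 0 0) • 1 + (Y 1 0) • C) * P⁻¹ := by rw [← hYeq]
    _ = (Y 0 0) • 1 + (Y 1 0) • Z := by
        rw [mul_add, add_mul, mul_smul_comm, mul_smul_comm, smul_mul_assoc, smul_mul_assoc, mul_one,
          Matrix.mul_nonsing_inv P hu, ← hZP, mul_assoc, Matrix.mul_nonsing_inv P hu, mul_one]

end CfsgLib.TwoDim
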